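import Groth.Agent.LiaisonLib.Poly
import Groth.Agent.SMTLib.MaxHeight
import Groth.Agent.GrSyzLib.Hilbert
import Groth.Agent.DualCxLib.FinLenLC
import Groth.Agent.LocCohLib.Facts
import Groth.Agent.LocCohLib.Finiteness
import Groth.Agent.LocCohLib.BaseChange
import Groth.Agent.LocCohLib.CohDim

/-! # Local cohomology of Cohen–Macaulay quotients of polynomial rings below the dimension -/

set_option autoImplicit false
set_option backward.isDefEq.respectTransparency false
set_option backward.isDefEq.respectTransparency.types false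

universe u

open LocCohLib

noncomputable section

namespace DoubleLinkLib

section Abstract

variable {A : Type u} [CommRing A] [IsNoetherianRing A]

/-- Local cohomology of a Cohen–Macaulay quotient at a maximal ideal vanishes below the dimension. -/
theorem subsingleton_H_quot_aux (J m : Ideal A) [m.IsMaximal] (hJm : J ≤ m)
    (hCM : LocCoh.IsCohenMacaulayRing (A ⧸ J)) (i : ℕ)
    (hi : ((i + 1 : ℕ) : WithBot ℕ∞) ≤
      ringKrullDim (Localization.AtPrime m ⧸ J.map (algebraMap A (Localization.AtPrime m)))) :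
    Subsingleton (LocCoh.H m i (A ⧸ J)) := by
  obtain ⟨hq, ⟨e⟩⟩ := LiaisonLib.exists_quot_equiv hJm
  let q := m.map (Ideal.Quotient.mk J)
  haveI : q.IsPrime := hq
  rw [ringKrullDim_eq_of_ringEquiv e] at hi
  haveI := hCM.isCohenMacaulayLocalRing_localization q
  have hcm := (hCM.isCohenMacaulayLocalRing_localization q).supportDim_eq_depth
  rw [Module.supportDim_self_eq_ringKrullDim] at hcm
  rw [hcm] at hi
  have hdep : (i + 1 : ℕ) ≤ LocCoh.depth (Localization.AtPrime q) (Localization.AtPrime q) :=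
    WithBot.coe_le_coe.1 hi
  have hq' : q.comap (algebraMap A (A ⧸ J)) = m := by
    show q.comap (Ideal.Quotient.mk J) = _
    rw [Ideal.comap_map_of_surjective _ Ideal.Quotient.mk_surjective, ← RingHom.ker_eq_comap_bot, Ideal.mk_ker,
      sup_eq_left.2 hJm]
  let B := Localization.AtPrime m
  haveI : IsNoetherianRing B := IsLocalization.isNoetherianRing m.primeCompl _ inferInstance
  have key : ∀ (p : Ideal A) [p.IsPrime], p = q.comap (algebraMap A (A ⧸ J)) →
      LocCoh.depth (Localization.AtPrime p) (LocalizedModule p.primeCompl (A ⧸ J)) =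
        LocCoh.depth (Localization.AtPrime q) (LocalizedModule q.primeCompl (A ⧸ J)) := by
    intro p _ hp
    subst hp
    exact Groth.Agent.DualCxLib.depth_localized_restrict (S := A) (A := A ⧸ J) Ideal.Quotient.mk_surjective ⟨q, hq⟩ (A ⧸ J)
  have hB : (i + 1 : ℕ) ≤ LocCoh.depth B (LocalizedModule m.primeCompl (A ⧸ J)) := by
    rw [key m hq'.symm]
    refine hdep.trans (le_of_eq (CommAlgDim.depth_congr ?_))
    exact (IsLocalizedModule.linearEquiv q.primeCompl (Algebra.linearMap (A ⧸ J) (Localization.AtPrime q))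
      (LocalizedModule.mkLinearMap q.primeCompl (A ⧸ J))).extendScalarsOfIsLocalization q.primeCompl _
  have hloc : Subsingleton (LocCoh.H (IsLocalRing.maximalIdeal B) i (LocalizedModule m.primeCompl (A ⧸ J))) :=
    (le_idealDepth_iff_subsingleton_H (I := IsLocalRing.maximalIdeal B) _ (i + 1)).1 hB i (Nat.lt_succ_self i)
  have h1 : Subsingleton (LocCoh.H (m.map (algebraMap A B)) i (TensorProduct A B (A ⧸ J))) := by
    rw [Localization.AtPrime.map_eq_maximalIdeal]
    exact (subsingleton_H_congr (LocalizedModule.equivTensorProduct m.primeCompl (A ⧸ J)) i).1 hloc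
  have h2 : Subsingleton (TensorProduct A B (LocCoh.H m i (A ⧸ J))) :=
    (tensLcEquiv (R' := B) m (A ⧸ J) i).injective.subsingleton
  have h3 : Subsingleton (LocalizedModule m.primeCompl (LocCoh.H m i (A ⧸ J))) :=
    (LocalizedModule.equivTensorProduct m.primeCompl _).injective.subsingleton
  refine ⟨fun a b => sub_eq_zero.1 ?_⟩
  generalize a - b = y
  obtain ⟨s, hs⟩ := LocalizedModule.mk_eq.1 (Subsingleton.elim (LocalizedModule.mk y 1)
    (LocalizedModule.mk (0 : LocCoh.H m i (A ⧸ J)) (1 : m.primeCompl)))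
  simp only [one_smul, smul_zero] at hs
  obtain ⟨N, hN⟩ := isPowerTorsion_H m i (A ⧸ J) y
  have htop : m ^ N ⊔ Ideal.span {(s : A)} = ⊤ := by
    by_contra hne'
    obtain ⟨M, hM, hle⟩ := Ideal.exists_le_maximal _ hne'
    have h4 : m ≤ M := fun x hx => hM.isPrime.mem_of_pow_mem N
      (hle (Ideal.mem_sup_left (Ideal.pow_mem_pow hx N)))
    exact s.2 (((‹m.IsMaximal›).eq_of_le hM.ne_top h4).ge
      (hle (Ideal.mem_sup_right (Ideal.mem_span_singleton_self _))))
  obtain ⟨a, ha, b, hb, hab⟩ := Submodule.mem_sup.1 ((Ideal.eq_top_iff_one _).1 htop)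
  obtain ⟨c, rfl⟩ := Ideal.mem_span_singleton'.1 hb
  rw [← one_smul A y, ← hab, add_smul, hN a ha, zero_add, mul_smul]
  rw [show (s : A) • y = 0 from hs, smul_zero]

end Abstract

variable {K : Type u} [Field K] {n : ℕ}

local notation "S" => MvPolynomial (Fin (n + 1)) K
local notation "𝔪" => RingHom.ker (MvPolynomial.constantCoeff : MvPolynomial (Fin (n + 1)) K →+* K)

theorem irrel_eq : (GrSyz.irrel (GrSyz.stdGr K (Fin (n + 1)))).toIdeal = 𝔪 := by
  refine le_antisymm (fun p hp => GrSyzLib.constantCoeff_of_mem_irrel hp) fun p hp => ?_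
  have h : p ∈ Ideal.span (Set.range (MvPolynomial.X : Fin (n + 1) → S)) := by
    rw [show (Set.range (MvPolynomial.X : Fin (n + 1) → S)) = MvPolynomial.X '' Set.univ from Set.image_univ.symm,
      MvPolynomial.mem_ideal_span_X_image]
    intro m hm
    have hm0 : m ≠ 0 := fun h0 => MvPolynomial.mem_support_iff.1 hm (h0 ▸ hp)
    obtain ⟨i, hi⟩ := Finsupp.ne_iff.1 hm0
    exact ⟨i, Set.mem_univ i, by simpa using hi⟩
  refine Ideal.span_le.2 ?_ h
  rintro _ ⟨i, rfl⟩
  refine Ideal.subset_span ⟨1, one_pos, ?_⟩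
  rw [GrSyz.mem_stdGr_iff]
  exact MvPolynomial.isWeightedHomogeneous_X K _ i

instance isMaximal_m : (𝔪).IsMaximal :=
  RingHom.ker_isMaximal_of_surjective _ fun c => ⟨MvPolynomial.C c, MvPolynomial.constantCoeff_C _ c⟩

/-- Local cohomology at the irrelevant ideal vanishes below the dimension. -/
theorem subsingleton_H_quot {J : Ideal S} (hJ : J.IsHomogeneous (GrSyz.stdGr K (Fin (n + 1))))
    (hCM : LocCoh.IsCohenMacaulayRing (S ⧸ J)) {h : ℕ} (hh : J.height = h) (i : ℕ) (hi : i + h < n + 1) :
    Subsingleton (LocCoh.H (𝔪) i (S ⧸ J)) := by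
  have hne : J ≠ ⊤ := LiaisonLib.ne_top_of_height_eq hh
  obtain ⟨P, hP⟩ := Ideal.nonempty_minimalPrimes hne
  have hPm : P ≤ 𝔪 := LiaisonLib.minimal_le_ker hJ hP
  have hPh : P.height = h :=
    (LiaisonLib.height_of_mem_associatedPrimes hJ hCM (LiaisonLib.mem_associatedPrimes_of_minimal hP)).trans hh
  have hJm : J ≤ 𝔪 := hP.1.2.trans hPm
  haveI : IsRegularRing S := inferInstance
  have hdim := LiaisonLib.ringKrullDim_quotient_map_add_height hCM hP hPm
  rw [IsLocalization.AtPrime.ringKrullDim_eq_height (𝔪) (Localization.AtPrime 𝔪),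
    MaxHeight.mvPolynomial K (n + 1) (𝔪), hPh] at hdim
  refine subsingleton_H_quot_aux J (𝔪) hJm hCM i ?_
  generalize ringKrullDim (Localization.AtPrime 𝔪 ⧸ J.map (algebraMap S (Localization.AtPrime 𝔪))) = D at hdim ⊢
  induction D with
  | bot =>
    rw [WithBot.bot_add] at hdim
    exact absurd hdim.symm (WithBot.coe_ne_bot (a := ((n + 1 : ℕ) : ℕ∞)))
  | coe D =>
    induction D using ENat.recTopCoe with
    | top => exact WithBot.coe_le_coe.2 le_top
    | coe m =>
      have hm : ((m + h : ℕ) : WithBot ℕ∞) = ((n + 1 : ℕ) : WithBot ℕ∞) := by exact_mod_cast hdim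
      have hm' : m + h = n + 1 := by exact_mod_cast hm
      exact_mod_cast (show i + 1 ≤ m by omega)

end DoubleLinkLib

end
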